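import Groth.Prelude.Def_RedSub
import Groth.Agent.MTBridge.Charts
import Groth.Agent.ClosedRep.EssFreeAffine
import Mathlib

/-!
# The big cell is the spectrum of a projective algebra
-/

set_option autoImplicit false
set_option linter.style.haveILetI false
set_option backward.isDefEq.respectTransparency false
set_option backward.isDefEq.respectTransparency.types false
set_option maxHeartbeats 1000000
set_option synthInstance.maxHeartbeats 400000

universe u

open CategoryTheory Limits MonoidalCategory CartesianMonoidalCategory AlgebraicGeometry TensorProduct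
open scoped CategoryTheory.Obj

noncomputable section

namespace Groth.Agent.RedEssFree

variable {A : Type u} [CommRing A]

/-- An affine object with projective algebra of functions. -/
def PP (X : Over (Spec (CommRingCat.of A))) : Prop :=
  ∃ (B : Type u) (_ : CommRing B) (_ : Algebra A B), Module.Projective A B ∧
    Nonempty (X ≅ Over.mk (Spec.map (CommRingCat.ofHom (algebraMap A B))))

theorem PP.of_iso {X Y : Over (Spec (CommRingCat.of A))} (e : X ≅ Y) (h : PP Y) : PP X := by
  obtain ⟨B, _, _, hB, ⟨i⟩⟩ := h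
  exact ⟨B, inferInstance, inferInstance, hB, ⟨e ≪≫ i⟩⟩

theorem PP.unit : PP (𝟙_ (Over (Spec (CommRingCat.of A)))) :=
  ⟨A, inferInstance, Algebra.id A, inferInstance, ⟨Over.isoMk (Iso.refl _) (by
    show 𝟙 _ ≫ Spec.map (CommRingCat.ofHom (algebraMap A A)) = 𝟙 _
    rw [Category.id_comp, Algebra.algebraMap_self, CommRingCat.ofHom_id, Spec.map_id])⟩⟩

theorem PP.tensor {X Y : Over (Spec (CommRingCat.of A))} (hX : PP X) (hY : PP Y) : PP (X ⊗ Y) := by
  obtain ⟨B, _, _, hB, ⟨i⟩⟩ := hX
  obtain ⟨C, _, _, hC, ⟨j⟩⟩ := hY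
  haveI := hB; haveI := hC
  refine ⟨B ⊗[A] C, inferInstance, inferInstance, inferInstance, ⟨MonoidalCategory.tensorIso i j ≪≫
    Over.isoMk (pullbackSpecIso A B C) ?_⟩⟩
  show (pullbackSpecIso A B C).hom ≫ Spec.map (CommRingCat.ofHom (algebraMap A (B ⊗[A] C))) =
    pullback.fst (Spec.map (CommRingCat.ofHom (algebraMap A B))) (Spec.map (CommRingCat.ofHom (algebraMap A C))) ≫
      Spec.map (CommRingCat.ofHom (algebraMap A B))
  rw [← pullbackSpecIso_hom_fst, Category.assoc, ← Spec.map_comp, ← CommRingCat.ofHom_comp]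
  rfl

theorem PP.DS (M : Type) [AddCommGroup M] : PP (Red.DS (Spec (CommRingCat.of A)) M) := by
  obtain ⟨e⟩ := MTBridge.nonempty_DS_iso A M
  exact ⟨MonoidAlgebra A (Multiplicative M), inferInstance, inferInstance, inferInstance,
    ⟨(Grp.forget _).mapIso e⟩⟩

theorem PP.baseChange {Z : Type u} [CommRing Z] [Algebra Z A] (B : Type u) [CommRing B] [Algebra Z B]
    [Module.Projective Z B] {g : Spec (CommRingCat.of A) ⟶ Spec (CommRingCat.of Z)}
    (hg : g = Spec.map (CommRingCat.ofHom (algebraMap Z A))) :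
    PP (Red.bc g (Over.mk (Spec.map (CommRingCat.ofHom (algebraMap Z B))))) := by
  subst hg
  refine ⟨A ⊗[Z] B, inferInstance, inferInstance, inferInstance, ⟨Over.isoMk
    (pullbackSymmetry (Spec.map (CommRingCat.ofHom (algebraMap Z B))) _ ≪≫ pullbackSpecIso Z A B) ?_⟩⟩
  show (pullbackSymmetry _ _ ≪≫ pullbackSpecIso Z A B).hom ≫
      Spec.map (CommRingCat.ofHom (Algebra.TensorProduct.includeLeftRingHom : A →+* A ⊗[Z] B)) =
    pullback.snd (Spec.map (CommRingCat.ofHom (algebraMap Z B))) (Spec.map (CommRingCat.ofHom (algebraMap Z A)))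
  rw [Iso.trans_hom, Category.assoc]
  erw [pullbackSpecIso_hom_fst]
  exact pullbackSymmetry_hom_comp_fst _ _

theorem PP.ga : PP (Red.Ga (Spec (CommRingCat.of A))) := by
  letI : Algebra (ULift.{u} ℤ) A :=
    ((Int.castRingHom A).comp (ULift.ringEquiv : ULift.{u} ℤ ≃+* ℤ).toRingHom).toAlgebra
  haveI : Module.Free (ULift.{u} ℤ) (SymmetricAlgebra (ULift.{u} ℤ) (ULift.{u} ℤ)) :=
    Module.Free.of_equiv
      (SymmetricAlgebra.equivMvPolynomial (Module.Basis.singleton PUnit.{1} (ULift.{u} ℤ))).symm.toLinearEquiv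
  exact PP.baseChange (SymmetricAlgebra (ULift.{u} ℤ) (ULift.{u} ℤ)) (specULiftZIsTerminal.hom_ext _ _)

theorem PP.pow {X : Over (Spec (CommRingCat.of A))} (h : PP X) : ∀ n, PP (RedSub.pow X n)
  | 0 => PP.unit
  | n + 1 => h.tensor (PP.pow h n)

end Groth.Agent.RedEssFree
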